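import Mathlib.RingTheory.Smooth.Basic
import Mathlib.RingTheory.Ideal.Cotangent

/-!
# The kernel of a ring map and its first cotangent homology
-/

set_option autoImplicit false
set_option backward.isDefEq.respectTransparency.types false

universe u

open TensorProduct Algebra

noncomputable section

namespace NLImmLib

section

variable (R S : Type u) [CommRing R] [CommRing S] [Algebra R S]

/-- A constant of the self presentation. -/
def const (x : RingHom.ker (algebraMap R S)) : (Generators.self R S).toExtension.ker :=
  ⟨MvPolynomial.C (x : R), by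
    rw [Algebra.Extension.ker, RingHom.mem_ker]
    exact (MvPolynomial.aeval_C _ _).trans x.2⟩

/-- An element of the kernel as a first cotangent homology class. -/
def kappa : RingHom.ker (algebraMap R S) →+ Algebra.H1Cotangent R S where
  toFun x := ⟨Extension.Cotangent.mk (const R S x), by
    rw [LinearMap.mem_ker, Extension.cotangentComplex_mk,
      show KaehlerDifferential.D R (Generators.self R S).toExtension.Ring (const R S x).1 = 0 from
        Derivation.map_algebraMap _ (x : R), TensorProduct.tmul_zero]⟩
  map_zero' := Subtype.ext (by
    show Extension.Cotangent.mk (const R S 0) = 0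
    rw [show const R S 0 = 0 from Subtype.ext (map_zero MvPolynomial.C), map_zero])
  map_add' x y := Subtype.ext (by
    show Extension.Cotangent.mk (const R S (x + y)) = _
    rw [show const R S (x + y) = const R S x + const R S y from Subtype.ext (map_add MvPolynomial.C _ _),
      map_add]
    rfl)

variable {R S}

theorem kappa_val (x : RingHom.ker (algebraMap R S)) :
    (kappa R S x).1 = Extension.Cotangent.mk (const R S x) := rfl

theorem kappa_smul (r : R) (x : RingHom.ker (algebraMap R S)) :
    kappa R S (r • x) = algebraMap R S r • kappa R S x := by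
  refine Subtype.ext ?_
  let c : (Generators.self R S).toExtension.Ring := (MvPolynomial.C r : MvPolynomial S R)
  rw [Extension.H1Cotangent.val_smul, kappa_val, kappa_val,
    show const R S (r • x) = c • const R S x from Subtype.ext (map_mul MvPolynomial.C r (x : R)),
    map_smul, ← algebraMap_smul S c]
  exact congrArg (· • _) (MvPolynomial.aeval_C _ r)

/-- The extension by the base ring itself. -/
def baseExt (h : Function.Surjective (algebraMap R S)) : Extension.{u} R S :=
  Extension.ofSurjective (Algebra.ofId R S) h

/-- The map to the self presentation. -/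
def baseHom (h : Function.Surjective (algebraMap R S)) :
    (baseExt h).Hom (Generators.self R S).toExtension where
  toRingHom := (MvPolynomial.C : R →+* MvPolynomial S R)
  toRingHom_algebraMap _ := rfl
  algebraMap_toRingHom := fun (x : R) => MvPolynomial.aeval_C _ x

theorem kappa_spec (h : Function.Surjective (algebraMap R S)) :
    Function.Surjective (kappa R S) ∧
      ∀ x : RingHom.ker (algebraMap R S), kappa R S x = 0 → (x : R) ∈ RingHom.ker (algebraMap R S) ^ 2 := by
  let E := baseExt h
  haveI : FormallySmooth R E.Ring := inferInstanceAs (FormallySmooth R R)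
  haveI : FormallySmooth R (Generators.self R S).toExtension.Ring :=
    inferInstanceAs (FormallySmooth R (MvPolynomial S R))
  have hb : Function.Bijective (Extension.H1Cotangent.map (baseHom h)) := by
    rw [← Extension.H1Cotangent.equivOfFormallySmooth_toLinearMap]
    exact LinearEquiv.bijective _
  haveI : Subsingleton Ω[E.Ring⁄R] := inferInstanceAs (Subsingleton Ω[R⁄R])
  haveI : Subsingleton E.CotangentSpace :=
    inferInstanceAs (Subsingleton (S ⊗[E.Ring] Ω[E.Ring⁄R]))
  let lift (x : RingHom.ker (algebraMap R S)) : E.H1Cotangent :=
    ⟨Extension.Cotangent.mk (⟨(x : R), x.2⟩ : E.ker), Subsingleton.elim _ _⟩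
  have hl : ∀ x, Extension.H1Cotangent.map (baseHom h) (lift x) = kappa R S x := fun x =>
    Subtype.ext (Extension.Cotangent.map_mk (baseHom h) _)
  refine ⟨fun y => ?_, fun x hx => ?_⟩
  · obtain ⟨z, rfl⟩ := hb.2 y
    obtain ⟨w, hw⟩ := Extension.Cotangent.mk_surjective z.1
    refine ⟨⟨w.1, w.2⟩, (hl _).symm.trans (congrArg _ ?_)⟩
    exact Subtype.ext hw
  · rw [← hl] at hx
    have h0 : Extension.Cotangent.mk (⟨(x : R), x.2⟩ : E.ker) = 0 :=
      congrArg Subtype.val ((map_eq_zero_iff _ hb.1).1 hx)
    exact (Ideal.toCotangent_eq_zero E.ker _).1 (congrArg Extension.Cotangent.val h0)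

end

section Map

variable {R R' S S' : Type u} [CommRing R] [CommRing R'] [CommRing S] [CommRing S']
  [Algebra R R'] [Algebra S S'] [Algebra R S] [Algebra R' S'] [Algebra R S']
  [IsScalarTower R R' S'] [IsScalarTower R S S']

theorem map_mem_ker (x : RingHom.ker (algebraMap R S)) :
    algebraMap R R' (x : R) ∈ RingHom.ker (algebraMap R' S') := by
  rw [RingHom.mem_ker, ← IsScalarTower.algebraMap_apply, IsScalarTower.algebraMap_apply R S S', x.2, map_zero]

theorem map_kappa (x : RingHom.ker (algebraMap R S)) :
    Algebra.H1Cotangent.map R R' S S' (kappa R S x) = kappa R' S' ⟨algebraMap R R' (x : R), map_mem_ker x⟩ :=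
  Subtype.ext ((Extension.Cotangent.map_mk _ _).trans (congrArg Extension.Cotangent.mk
    (Subtype.ext (MvPolynomial.aeval_C _ (x : R)))))

end Map

end NLImmLib
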