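import Groth.Agent.NLImmLib.Map
import Groth.Agent.KFlatLib.PullTensor
import Groth.Agent.DevissLib.Stalk

/-!
# The conormal sheaf of an immersion is the sheaf of first cotangent homology
-/

set_option autoImplicit false
set_option backward.isDefEq.respectTransparency.types false
set_option maxHeartbeats 1000000

universe u

open CategoryTheory AlgebraicGeometry TopologicalSpace Opposite TensorProduct
open OmegaSh (idealSect conormalSect)
open DevissLib (St gm)

noncomputable section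

namespace NLImmLib

variable {Z X : Scheme.{u}} (i : Z ⟶ X)

theorem gm_add {M : Z.Modules} {U : Z.Opens} {z : Z} (hz : z ∈ U) (s t : Γ(M, U)) :
    gm M z hz (s + t) = gm M z hz s + gm M z hz t := map_add (M.presheaf.germ U z hz).hom s t

/-- The germ of a pulled back section of the ideal. -/
def cgm (W : X.Opens) (s : Γ(ClSub.idealMod i.ker, W)) (z : Z) (hz : i z ∈ W) :
    (St z).obj (Omega.conormal i) :=
  gm (Omega.conormal i) z (U := i ⁻¹ᵁ W) hz (conormalSect i W s)

theorem cgm_res {W W' : X.Opens} (e : W' ≤ W) (s : Γ(ClSub.idealMod i.ker, W)) (z : Z) (hz : i z ∈ W') :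
    cgm i W' ((ClSub.idealMod i.ker).presheaf.map (homOfLE e).op s) z hz = cgm i W s z (e hz) :=
  (congrArg (gm (Omega.conormal i) z (U := i ⁻¹ᵁ W') hz) (OmegaSh.pullSect_map i (ClSub.idealMod i.ker) e s)).trans
    (DevissLib.gm_map (Omega.conormal i) (i.preimage_mono e) z hz (conormalSect i W s))

theorem cgm_add {W : X.Opens} (s t : Γ(ClSub.idealMod i.ker, W)) (z : Z) (hz : i z ∈ W) :
    cgm i W (s + t) z hz = cgm i W s z hz + cgm i W t z hz :=
  (congrArg (gm (Omega.conormal i) z (U := i ⁻¹ᵁ W) hz) (map_add (conormalSect i W).hom s t)).trans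
    (gm_add (M := Omega.conormal i) (z := z) (U := i ⁻¹ᵁ W) hz _ _)

theorem cgm_smul {W : X.Opens} (r : Γ(X, W)) (s : Γ(ClSub.idealMod i.ker, W)) (z : Z) (hz : i z ∈ W) :
    cgm i W (r • s) z hz = i.stalkMap z (X.presheaf.germ W (i z) hz r) • cgm i W s z hz := by
  rw [Scheme.Hom.germ_stalkMap_apply]
  exact (congrArg (gm (Omega.conormal i) z (U := i ⁻¹ᵁ W) hz) (OmegaSh.pullSect_smul i _ W r s)).trans
    (DevissLib.gm_smul _ _ _ _ _)

theorem cgm_congr {W W' : X.Opens} (s : Γ(ClSub.idealMod i.ker, W)) (s' : Γ(ClSub.idealMod i.ker, W')) (z : Z)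
    (hz : i z ∈ W) (hz' : i z ∈ W')
    (h : X.presheaf.germ W (i z) hz (idealSect i.ker W s) = X.presheaf.germ W' (i z) hz' (idealSect i.ker W' s')) :
    cgm i W s z hz = cgm i W' s' z hz' := by
  obtain ⟨T, hT, a, b, hab⟩ := X.presheaf.germ_eq _ _ _ _ _ h
  rw [← cgm_res i a.le s z hT, ← cgm_res i b.le s' z hT]
  congr 1
  apply ConormalSecLib.idealSect_injective i T
  rw [ConormalSecLib.idealSect_map, ConormalSecLib.idealSect_map]
  exact hab

theorem exists_cgm [IsPreimmersion i] (z : Z) (a : (St z).obj (Omega.conormal i)) :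
    ∃ (W : X.Opens) (hz : i z ∈ W) (s : Γ(ClSub.idealMod i.ker, W)), cgm i W s z hz = a := by
  letI := (i.stalkMap z).hom.toAlgebra
  let M := ClSub.idealMod i.ker
  let L : TensorProduct (X.presheaf.stalk (i z)) (Z.presheaf.stalk z) (M.presheaf.stalk (i z)) →
      (St z).obj (Omega.conormal i) := ((KFlatLib.stalkPullIso i z).inv.app M).hom
  suffices h : ∀ w, ∃ (W : X.Opens) (hz : i z ∈ W) (s : Γ(M, W)), cgm i W s z hz = L w by
    obtain ⟨w, rfl⟩ := (ConcreteCategory.bijective_of_isIso ((KFlatLib.stalkPullIso i z).inv.app M)).2 a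
    exact h w
  intro w
  induction w using TensorProduct.induction_on with
  | zero =>
    refine ⟨⊤, trivial, 0, ?_⟩
    have h := cgm_add i (0 : Γ(M, ⊤)) 0 z trivial
    rw [add_zero] at h
    exact (right_eq_add.mp h).trans (map_zero ((KFlatLib.stalkPullIso i z).inv.app M).hom).symm
  | tmul c m =>
    obtain ⟨r, rfl⟩ := i.stalkMap_surjective z c
    obtain ⟨W, hz, s, hs⟩ := DevissLib.exists_gm_eq M (i z) (r • (m : (St (i z)).obj M))
    refine ⟨W, hz, s, ?_⟩
    refine ((KFlatLib.stalkPullInv_germ i M z hz s).symm).trans (congrArg L ?_)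
    refine (congrArg (fun t => (1 : Z.presheaf.stalk z) ⊗ₜ[X.presheaf.stalk (i z)] t) hs).trans ?_
    exact (TensorProduct.smul_tmul (R := X.presheaf.stalk (i z)) (R' := X.presheaf.stalk (i z))
      (M := Z.presheaf.stalk z) (N := (St (i z)).obj M) r (1 : Z.presheaf.stalk z) m).symm.trans
      (congrArg (fun t => t ⊗ₜ[X.presheaf.stalk (i z)] m) ((Algebra.smul_def r (1 : Z.presheaf.stalk z)).trans (mul_one _)))
  | add a b ha hb =>
    obtain ⟨W, hz, s, hs⟩ := ha
    obtain ⟨W', hz', s', hs'⟩ := hb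
    refine ⟨W ⊓ W', ⟨hz, hz'⟩, M.presheaf.map (homOfLE inf_le_left).op s +
      M.presheaf.map (homOfLE inf_le_right).op s', ?_⟩
    rw [cgm_add, cgm_res, cgm_res]
    exact (congrArg₂ (· + ·) hs hs').trans (map_add ((KFlatLib.stalkPullIso i z).inv.app M).hom a b).symm

theorem exists_lift [IsPreimmersion i] [QuasiCompact i] (z : Z) (j : X.presheaf.stalk (i z))
    (hj : i.stalkMap z j = 0) :
    ∃ (W : X.Opens) (hz : i z ∈ W) (s : Γ(ClSub.idealMod i.ker, W)),
      X.presheaf.germ W (i z) hz (idealSect i.ker W s) = j := by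
  obtain ⟨W, hW, a, rfl⟩ := X.presheaf.exists_germ_eq (x := i z) j
  rw [Scheme.Hom.germ_stalkMap_apply] at hj
  obtain ⟨N, hzN, k, k', hk⟩ := Z.presheaf.germ_eq (x := z) (U := i ⁻¹ᵁ W) (V := i ⁻¹ᵁ W) hW hW (i.app W a) 0
    (hj.trans (map_zero _).symm)
  rw [map_zero] at hk
  obtain ⟨O, hO, hON⟩ := i.isEmbedding.isInducing.isOpen_iff.mp N.2
  let W' : X.Opens := W ⊓ ⟨O, hO⟩
  have hW' : W' ≤ W := inf_le_left
  have hle : i ⁻¹ᵁ W' ≤ N := fun y hy => by
    have : y ∈ i ⁻¹' O := hy.2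
    rwa [hON] at this
  have hzW : i z ∈ W' := ⟨hW, show z ∈ i ⁻¹' O by rw [hON]; exact hzN⟩
  have h0 : i.app W' (X.presheaf.map (homOfLE hW').op a) = 0 := by
    refine (congr($(i.naturality (homOfLE hW').op) a)).trans ?_
    refine Eq.trans ?_ (congrArg (Z.presheaf.map (homOfLE hle).op) hk |>.trans (map_zero _))
    rw [ConcreteCategory.comp_apply]
    exact congr($(Z.presheaf.map_comp k.op (homOfLE hle).op) (i.app W a))
  refine ⟨W', hzW, ConormalSecLib.lift i W' _ h0, ?_⟩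
  rw [ConormalSecLib.idealSect_lift]
  exact TopCat.Presheaf.germ_res_apply _ _ _ _ _

theorem cgm_eq_zero_of_mem_sq [IsPreimmersion i] [QuasiCompact i] {W : X.Opens}
    (s : Γ(ClSub.idealMod i.ker, W)) (z : Z) (hz : i z ∈ W)
    (h : X.presheaf.germ W (i z) hz (idealSect i.ker W s) ∈ RingHom.ker (i.stalkMap z).hom ^ 2) :
    cgm i W s z hz = 0 := by
  suffices ∀ j ∈ RingHom.ker (i.stalkMap z).hom * RingHom.ker (i.stalkMap z).hom,
      ∃ (W : X.Opens) (hz : i z ∈ W) (s : Γ(ClSub.idealMod i.ker, W)),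
        X.presheaf.germ W (i z) hz (idealSect i.ker W s) = j ∧ cgm i W s z hz = 0 by
    rw [pow_two] at h
    obtain ⟨W', hz', s', hs', h0⟩ := this _ h
    exact (cgm_congr i s s' z hz hz' hs'.symm).trans h0
  intro j hj
  induction hj using Submodule.mul_induction_on' with
  | mem_mul_mem r hr m hm =>
    obtain ⟨W, hW, s, hs⟩ := exists_lift i z m hm
    obtain ⟨W', hW', a, ha⟩ := X.presheaf.exists_germ_eq (x := i z) r
    refine ⟨W' ⊓ W, ⟨hW', hW⟩, X.presheaf.map (homOfLE (inf_le_left : W' ⊓ W ≤ W')).op a •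
      (ClSub.idealMod i.ker).presheaf.map (homOfLE (inf_le_right : W' ⊓ W ≤ W)).op s, ?_, ?_⟩
    · rw [ConormalSecLib.idealSect_smul, map_mul, TopCat.Presheaf.germ_res_apply, ConormalSecLib.idealSect_map,
        TopCat.Presheaf.germ_res_apply, ha, hs]
    · rw [cgm_smul, TopCat.Presheaf.germ_res_apply, ha,
        show i.stalkMap z r = 0 from hr, zero_smul]
  | add a _ b _ ha hb =>
    obtain ⟨W, hW, s, hs, hs0⟩ := ha
    obtain ⟨W', hW', s', hs', hs0'⟩ := hb
    refine ⟨W ⊓ W', ⟨hW, hW'⟩, (ClSub.idealMod i.ker).presheaf.map (homOfLE inf_le_left).op s +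
      (ClSub.idealMod i.ker).presheaf.map (homOfLE inf_le_right).op s', ?_, ?_⟩
    · rw [map_add, map_add, ConormalSecLib.idealSect_map, ConormalSecLib.idealSect_map,
        TopCat.Presheaf.germ_res_apply, TopCat.Presheaf.germ_res_apply, hs, hs']
    · rw [cgm_add, cgm_res, cgm_res, hs0, hs0', add_zero]

/-- A section of the sheaf with vanishing value at a point has vanishing germ there. -/
theorem gm_eq_zero_of_val {O : Z.Opens} (t : Γ(NLSheafLib.sheaf i, O)) (z : Z) (hz : z ∈ O)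
    (h : (show NLSheafLib.sec i O from t).1 ⟨z, hz⟩ = 0) : gm (NLSheafLib.sheaf i) z hz t = 0 := by
  obtain ⟨U, V, e, hU, hzU, m, hm⟩ := (show NLSheafLib.sec i O from t).2 ⟨z, hz⟩
  rw [hm z hzU] at h
  obtain ⟨a, hza, ham⟩ := (NLSheafLib.germH_loc U V e z hzU).1 m h
  have hle : Z.basicOpen a ≤ O := (Z.basicOpen_le a).trans hU
  rw [← DevissLib.gm_map (NLSheafLib.sheaf i) hle z hza t,
    show (NLSheafLib.sheaf i).presheaf.map (homOfLE hle).op t = 0 from Subtype.ext (funext fun y => ?_)]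
  · exact DevissLib.gm_zero _ _ _
  · show (show NLSheafLib.sec i O from t).1 ⟨(y : Z), hle y.2⟩ = 0
    rw [hm (y : Z) (Z.basicOpen_le a y.2)]
    have h0 := congrArg (NLSheafLib.germH i U V e y (Z.basicOpen_le a y.2)) ham
    rw [map_zero, NLSheafLib.germH_smul] at h0
    exact ((Z.mem_basicOpen a y (Z.basicOpen_le a y.2)).1 y.2).smul_eq_zero.1 h0

theorem val_eq_zero_of_gm {O : Z.Opens} (t : Γ(NLSheafLib.sheaf i, O)) (z : Z) (hz : z ∈ O)
    (h : gm (NLSheafLib.sheaf i) z hz t = 0) : (show NLSheafLib.sec i O from t).1 ⟨z, hz⟩ = 0 := by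
  obtain ⟨T, hzT, a, b, hab⟩ := (NLSheafLib.sheaf i).presheaf.germ_eq z hz hz t 0
    (h.trans (map_zero ((NLSheafLib.sheaf i).presheaf.germ O z hz).hom).symm)
  rw [map_zero] at hab
  exact congr_fun (congr_arg Subtype.val hab) ⟨z, hzT⟩

variable [IsPreimmersion i] [QuasiCompact i]

theorem isIso_hom (φ : Omega.conormal i ⟶ NLSheafLib.sheaf i)
    (hφ : ∀ (W : X.Opens) (s : Γ(ClSub.idealMod i.ker, W)),
      φ.app (i ⁻¹ᵁ W) (conormalSect i W s) = ksecHom i W s) : IsIso φ := by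
  refine KFlatLib.isIso_of_stalks φ fun z => ?_
  letI := (i.stalkMap z).hom.toAlgebra
  have hsp := kappa_spec (R := X.presheaf.stalk (i z)) (S := Z.presheaf.stalk z) (i.stalkMap_surjective z)
  have hval : ∀ (W : X.Opens) (s : Γ(ClSub.idealMod i.ker, W)) (hz : i z ∈ W),
      ((St z).map φ).hom (cgm i W s z hz) = gm (NLSheafLib.sheaf i) z (U := i ⁻¹ᵁ W) hz (ksecHom i W s) :=
    fun W s hz => (DevissLib.gm_app φ z (U := i ⁻¹ᵁ W) hz _).trans (congrArg _ (hφ W s))
  refine (ConcreteCategory.isIso_iff_bijective _).mpr ⟨(injective_iff_map_eq_zero _).2 fun a ha => ?_, fun b => ?_⟩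
  · obtain ⟨W, hz, s, rfl⟩ := exists_cgm i z a
    have h0 : ksec i W s ⟨z, hz⟩ = 0 := val_eq_zero_of_gm i _ z hz ((hval W s hz).symm.trans ha)
    exact cgm_eq_zero_of_mem_sq i s z hz (hsp.2 _ h0)
  · obtain ⟨O, hzO, t, rfl⟩ := DevissLib.exists_gm_eq (NLSheafLib.sheaf i) z b
    obtain ⟨⟨j, hj⟩, hjt⟩ := hsp.1 ((show NLSheafLib.sec i O from t).1 ⟨z, hzO⟩)
    obtain ⟨W, hz, s, hs⟩ := exists_lift i z j hj
    refine ⟨cgm i W s z hz, (hval W s hz).trans ?_⟩
    let T := O ⊓ i ⁻¹ᵁ W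
    have hzT : z ∈ T := ⟨hzO, show z ∈ i ⁻¹ᵁ W from hz⟩
    let t₁ : Γ(NLSheafLib.sheaf i, T) := (NLSheafLib.sheaf i).presheaf.map (homOfLE inf_le_left).op t
    let t₂ : Γ(NLSheafLib.sheaf i, T) :=
      (NLSheafLib.sheaf i).presheaf.map (homOfLE inf_le_right).op (ksecHom i W s)
    have hd : gm (NLSheafLib.sheaf i) z (U := T) hzT (t₂ - t₁) = 0 :=
      gm_eq_zero_of_val i _ z hzT (sub_eq_zero.2
        ((kst_congr i hs (stalkMap_germ_idealSect i W s z hz) hj).trans hjt))
    have hd' := sub_eq_zero.1 ((map_sub ((NLSheafLib.sheaf i).presheaf.germ T z hzT).hom t₂ t₁).symm.trans hd)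
    exact (DevissLib.gm_map _ inf_le_right z (U := i ⁻¹ᵁ W) _ _).symm.trans (hd'.trans
      (DevissLib.gm_map _ inf_le_left z _ _))

theorem nonempty_iso : Nonempty (Omega.conormal i ≅ NLSheafLib.sheaf i) := by
  obtain ⟨φ, hφ⟩ := exists_hom i
  haveI := isIso_hom i φ hφ
  exact ⟨asIso φ⟩

/-- The charts of the conormal sheaf. -/
theorem nonempty_h1Sheaf : Nonempty (NLCx.H1Sheaf i (Omega.conormal i)) := by
  obtain ⟨φ⟩ := nonempty_iso i
  let c := NLSheafLib.h1Sheaf i
  let E (U : Z.Opens) : Γ(Omega.conormal i, U) ≃+ Γ(NLSheafLib.sheaf i, U) :=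
    { (φ.hom.app U).hom with
      invFun := φ.inv.app U
      left_inv := fun x => congr((($(φ.hom_inv_id)).app U) x)
      right_inv := fun x => congr((($(φ.inv_hom_id)).app U) x) }
  exact ⟨{ iso := fun U V e => (E U).trans (c.iso U V e)
           map_smul := fun U V e a m =>
             (congrArg (c.iso U V e) (Scheme.Modules.Hom.app_smul φ.hom a m)).trans (c.map_smul U V e a _)
           map_res := fun {U U' V V'} e e' hU hV m =>
             (congrArg (c.iso U' V' e') (congr($(φ.hom.mapPresheaf.naturality (homOfLE hU).op) m))).trans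
               (c.map_res e e' hU hV _) }⟩

end NLImmLib
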