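import Groth.Prelude.Def_SheafNL
import Groth.Agent.NLSheafLib.Sheaf
import Groth.Agent.NLImmLib.Alg
import Groth.Agent.ConormalSecLib.Basic

/-!
# From the conormal sheaf to the sheaf of first cotangent homology
-/

set_option autoImplicit false
set_option backward.isDefEq.respectTransparency.types false
set_option maxHeartbeats 1000000

universe u

open CategoryTheory AlgebraicGeometry TopologicalSpace Opposite
open OmegaSh (idealSect conormalSect)

noncomputable section

namespace NLImmLib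

variable {Z X : Scheme.{u}} (i : Z ⟶ X)

theorem stalkMap_germ_idealSect (W : X.Opens) (s : Γ(ClSub.idealMod i.ker, W)) (z : Z) (hz : i z ∈ W) :
    i.stalkMap z (X.presheaf.germ W (i z) hz (idealSect i.ker W s)) = 0 := by
  rw [Scheme.Hom.germ_stalkMap_apply]
  exact (congrArg (fun a => Z.presheaf.germ (i ⁻¹ᵁ W) z hz a) (ConormalSecLib.app_idealSect i W s)).trans
    (map_zero _)

/-- A class in the first cotangent homology of a local ring map. -/
def kst (z : Z) (j : X.presheaf.stalk (i z)) (hj : i.stalkMap z j = 0) : NLSheafLib.H i z :=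
  letI := (i.stalkMap z).hom.toAlgebra
  kappa (X.presheaf.stalk (i z)) (Z.presheaf.stalk z) ⟨j, hj⟩

theorem kst_congr {z : Z} {j j' : X.presheaf.stalk (i z)} (h : j = j') (hj : i.stalkMap z j = 0)
    (hj' : i.stalkMap z j' = 0) : kst i z j hj = kst i z j' hj' := by
  subst h; rfl

theorem kst_add {z : Z} (j j' : X.presheaf.stalk (i z)) (hj : i.stalkMap z j = 0) (hj' : i.stalkMap z j' = 0)
    (h : i.stalkMap z (j + j') = 0) : kst i z (j + j') h = kst i z j hj + kst i z j' hj' :=
  letI := (i.stalkMap z).hom.toAlgebra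
  (kappa (X.presheaf.stalk (i z)) (Z.presheaf.stalk z)).map_add ⟨j, hj⟩ ⟨j', hj'⟩

theorem kst_mul {z : Z} (r j : X.presheaf.stalk (i z)) (hj : i.stalkMap z j = 0)
    (h : i.stalkMap z (r * j) = 0) : kst i z (r * j) h = i.stalkMap z r • kst i z j hj :=
  letI := (i.stalkMap z).hom.toAlgebra
  kappa_smul (R := X.presheaf.stalk (i z)) (S := Z.presheaf.stalk z) r ⟨j, hj⟩

/-- The germs of a section of the ideal in the first cotangent homology. -/
def ksec (W : X.Opens) (s : Γ(ClSub.idealMod i.ker, W)) : NLSheafLib.Fam i (i ⁻¹ᵁ W) := fun z =>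
  kst i z (X.presheaf.germ W (i (z : Z)) z.2 (idealSect i.ker W s)) (stalkMap_germ_idealSect i W s z z.2)

theorem germH_kappa {U : Z.affineOpens} {V : X.affineOpens} (e : (U : Z.Opens) ≤ i ⁻¹ᵁ (V : X.Opens))
    (a : Γ(X, (V : X.Opens))) (ha : i.appLE (V : X.Opens) (U : Z.Opens) e a = 0) (z : Z) (hz : z ∈ (U : Z.Opens))
    (hj : i.stalkMap z (X.presheaf.germ (V : X.Opens) (i z) (e hz) a) = 0) :
    letI := (i.appLE (V : X.Opens) (U : Z.Opens) e).hom.toAlgebra
    NLSheafLib.germH i U V e z hz (kappa Γ(X, (V : X.Opens)) Γ(Z, (U : Z.Opens)) ⟨a, ha⟩) =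
      kst i z (X.presheaf.germ (V : X.Opens) (i z) (e hz) a) hj := by
  letI := (i.appLE (V : X.Opens) (U : Z.Opens) e).hom.toAlgebra
  letI := (i.stalkMap z).hom.toAlgebra
  letI := (X.presheaf.germ (V : X.Opens) (i z) (e hz)).hom.toAlgebra
  letI := (Z.presheaf.germ (U : Z.Opens) z hz).hom.toAlgebra
  letI := (i.appLE (V : X.Opens) (U : Z.Opens) e ≫ Z.presheaf.germ (U : Z.Opens) z hz).hom.toAlgebra
  haveI : IsScalarTower Γ(X, (V : X.Opens)) Γ(Z, (U : Z.Opens)) (Z.presheaf.stalk z) :=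
    IsScalarTower.of_algebraMap_eq' rfl
  haveI : IsScalarTower Γ(X, (V : X.Opens)) (X.presheaf.stalk (i z)) (Z.presheaf.stalk z) :=
    IsScalarTower.of_algebraMap_eq' (by
      change (i.appLE _ _ e ≫ Z.presheaf.germ _ z hz).hom = (i.stalkMap z).hom.comp (X.presheaf.germ _ (i z) (e hz)).hom
      rw [← CommRingCat.hom_comp, Scheme.Hom.germ_stalkMap, Scheme.Hom.appLE, Category.assoc,
        TopCat.Presheaf.germ_res])
  exact map_kappa (R := Γ(X, (V : X.Opens))) (R' := X.presheaf.stalk (i z)) (S := Γ(Z, (U : Z.Opens)))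
    (S' := Z.presheaf.stalk z) ⟨a, ha⟩

theorem appLE_idealSect {W : X.Opens} {V : X.affineOpens} {U : Z.affineOpens} (hV : (V : X.Opens) ≤ W)
    (e : (U : Z.Opens) ≤ i ⁻¹ᵁ (V : X.Opens)) (s : Γ(ClSub.idealMod i.ker, W)) :
    i.appLE (V : X.Opens) (U : Z.Opens) e (X.presheaf.map (homOfLE hV).op (idealSect i.ker W s)) = 0 := by
  rw [← ConcreteCategory.comp_apply, Scheme.Hom.map_appLE, Scheme.Hom.appLE, ConcreteCategory.comp_apply]
  exact (congrArg _ (ConormalSecLib.app_idealSect i W s)).trans (map_zero _)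

theorem isRep_ksec (W : X.Opens) (s : Γ(ClSub.idealMod i.ker, W)) : NLSheafLib.IsRep i (ksec i W s) := fun z => by
  obtain ⟨U, V, e, hzU, hU, hV⟩ := NLSheafLib.exists_chart i (z : Z) (i ⁻¹ᵁ W) z.2 W z.2
  refine ⟨U, V, e, hU, hzU, ?_⟩
  letI := (i.appLE (V : X.Opens) (U : Z.Opens) e).hom.toAlgebra
  refine ⟨kappa Γ(X, (V : X.Opens)) Γ(Z, (U : Z.Opens))
    ⟨X.presheaf.map (homOfLE hV).op (idealSect i.ker W s), appLE_idealSect i hV e s⟩, fun y hy => ?_⟩
  have hg : X.presheaf.germ (V : X.Opens) (i y) (e hy) (X.presheaf.map (homOfLE hV).op (idealSect i.ker W s)) =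
      X.presheaf.germ W (i y) (hU hy) (idealSect i.ker W s) :=
    TopCat.Presheaf.germ_res_apply _ _ _ _ _
  exact ((germH_kappa i e _ (appLE_idealSect i hV e s) y hy
    (by rw [hg]; exact stalkMap_germ_idealSect i W s y (hU hy))).trans (kst_congr i hg _ _)).symm

theorem ksec_add (W : X.Opens) (s t : Γ(ClSub.idealMod i.ker, W)) : ksec i W (s + t) = ksec i W s + ksec i W t :=
  funext fun z => by
    have h : X.presheaf.germ W (i (z : Z)) z.2 (idealSect i.ker W (s + t)) =
        X.presheaf.germ W (i (z : Z)) z.2 (idealSect i.ker W s) +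
          X.presheaf.germ W (i (z : Z)) z.2 (idealSect i.ker W t) := by rw [map_add, map_add]
    exact (kst_congr i h _ (by rw [← h]; exact stalkMap_germ_idealSect i W (s + t) z z.2)).trans (kst_add i _ _ _ _ _)

theorem ksec_smul (W : X.Opens) (r : Γ(X, W)) (s : Γ(ClSub.idealMod i.ker, W)) :
    ksec i W (r • s) = i.app W r • ksec i W s :=
  funext fun z => by
    have h : X.presheaf.germ W (i (z : Z)) z.2 (idealSect i.ker W (r • s)) =
        X.presheaf.germ W (i (z : Z)) z.2 r * X.presheaf.germ W (i (z : Z)) z.2 (idealSect i.ker W s) := by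
      rw [ConormalSecLib.idealSect_smul, map_mul]
    refine (kst_congr i h _ (by rw [← h]; exact stalkMap_germ_idealSect i W (r • s) z z.2)).trans ?_
    rw [kst_mul, Scheme.Hom.germ_stalkMap_apply]
    rfl

theorem ksec_res {W W' : X.Opens} (e : W' ≤ W) (s : Γ(ClSub.idealMod i.ker, W)) (z : (i ⁻¹ᵁ W' : Z.Opens)) :
    ksec i W' ((ClSub.idealMod i.ker).presheaf.map (homOfLE e).op s) z = ksec i W s ⟨(z : Z), e z.2⟩ :=
  kst_congr i (by rw [ConormalSecLib.idealSect_map]; exact TopCat.Presheaf.germ_res_apply _ _ _ _ _) _ _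

/-- The map on sections. -/
def ksecHom (W : X.Opens) :
    Γ(ClSub.idealMod i.ker, W) →+ NLSheafLib.sec i (i ⁻¹ᵁ W) where
  toFun s := ⟨ksec i W s, isRep_ksec i W s⟩
  map_zero' := Subtype.ext (by
    have h := ksec_add i W 0 0
    rw [add_zero] at h
    exact right_eq_add.mp h)
  map_add' s t := Subtype.ext (ksec_add i W s t)

theorem exists_hom : ∃ φ : Omega.conormal i ⟶ NLSheafLib.sheaf i,
    ∀ (W : X.Opens) (s : Γ(ClSub.idealMod i.ker, W)),
      φ.app (i ⁻¹ᵁ W) (conormalSect i W s) = ksecHom i W s := by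
  let ψ : ClSub.idealMod i.ker ⟶ (Scheme.Modules.pushforward i).obj (NLSheafLib.sheaf i) :=
    ⟨PresheafOfModules.homMk (M₁ := (ClSub.idealMod i.ker).val)
      (M₂ := ((Scheme.Modules.pushforward i).obj (NLSheafLib.sheaf i)).val)
      { app := fun W => AddCommGrpCat.ofHom (ksecHom i W.unop)
        naturality := fun W W' e => by
          ext s
          exact Subtype.ext (funext fun z => ksec_res i e.unop.le s z) }
      (fun W r s => Subtype.ext (ksec_smul i W.unop r s))⟩
  refine ⟨((Scheme.Modules.pullbackPushforwardAdjunction i).homEquiv _ _).symm ψ, fun U s => ?_⟩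
  have h := congr((($(((Scheme.Modules.pullbackPushforwardAdjunction i).homEquiv _ _).apply_symm_apply ψ)).app U) s)
  rw [Adjunction.homEquiv_unit] at h
  exact h

end NLImmLib
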